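import Groth.Agent.Lib.HopfMod.Basic
import Mathlib.RingTheory.Flat.Basic
import Mathlib.RingTheory.IntegralClosure.IntegrallyClosed
import Mathlib.RingTheory.Localization.FractionRing
import Mathlib.Data.Fintype.Powerset

/-!
# Equalisers of maps out of a finite product of normal domains
-/

open TensorProduct HopfRep

universe u v w

namespace Groth.Agent.EqLocH28

section Coact

variable {k : Type u} [Field k] {A : Type v} [CommRing A] [HopfAlgebra k A]
variable {R : Type w} [CommRing R] [Algebra k R] [Comod k A R] [GLin.IsCoactAlg k A R]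

lemma tmul_one_mul_eq_zero {b : R} (hb : b ∈ nonZeroDivisors R) {t : R ⊗[k] A}
    (ht : (b ⊗ₜ[k] (1 : A)) * t = 0) : t = 0 := by
  refine Module.Flat.rTensor_preserves_injective_linearMap (M := A) (LinearMap.mulLeft k b)
    (fun x y h => ?_) ?_
  · have h' : b * x = b * y := h
    rw [mem_nonZeroDivisors_iff] at hb
    exact sub_eq_zero.1 (hb.1 _ (by rw [mul_sub, h', sub_self]))
  rw [map_zero, ← ht]
  clear ht
  induction t with
  | zero => simp
  | tmul r c => simp
  | add p q hp hq => simp only [map_add, mul_add, hp, hq]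

/-- The coaction of a non-zero-divisor is a non-zero-divisor. -/
lemma coact_mul_eq_zero {b : R} (hb : b ∈ nonZeroDivisors R) :
    ∀ t : R ⊗[k] A, Comod.coact (k := k) (A := A) b * t = 0 → t = 0 := by
  have hnz : ∀ t : R ⊗[k] A, (b ⊗ₜ[k] (1 : A)) * t = 0 → t = 0 := fun t => tmul_one_mul_eq_zero hb
  have hone : Comod.coact (k := k) (A := A) (1 : R) = 1 := GLin.IsCoactAlg.coact_one
  intro t ht
  let U : R ⊗[k] A →ₐ[k] R ⊗[k] A := Algebra.TensorProduct.lift (GLin.coactAlgHom k A R)
    Algebra.TensorProduct.includeRight fun _ _ => Commute.all _ _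
  let S := HopfAlgebraStruct.antipode (R := k) (A := A)
  let V : R ⊗[k] A →ₐ[k] R ⊗[k] A := Algebra.TensorProduct.lift
    ((Algebra.TensorProduct.map (AlgHom.id k R) (HopfAlgebra.antipodeAlgHom k A)).comp (GLin.coactAlgHom k A R))
    Algebra.TensorProduct.includeRight fun _ _ => Commute.all _ _
  have hUV : ∀ w, U (V w) = w := by
    intro w
    refine AlgHom.congr_fun (?_ : U.comp V = AlgHom.id k _) w
    refine Algebra.TensorProduct.ext' fun r c => ?_
    have key : U (V (r ⊗ₜ[k] (1 : A))) = r ⊗ₜ[k] (1 : A) := by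
      conv_rhs => rw [← HopfMod.coact_antipode_right (k := k) (A := A) r]
      simp only [U, V, Algebra.TensorProduct.lift_tmul, AlgHom.comp_apply, map_one, mul_one,
        GLin.coactAlgHom_apply]
      generalize Comod.coact (k := k) (A := A) r = s
      induction s with
      | zero => simp
      | add p q hp hq => simp only [map_add, hp, hq]
      | tmul p q =>
        simp only [Algebra.TensorProduct.map_tmul, AlgHom.id_apply, Algebra.TensorProduct.lift_tmul,
          GLin.coactAlgHom_apply, LinearMap.rTensor_tmul]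
        generalize Comod.coact (k := k) (A := A) p = s'
        induction s' with
        | zero => simp
        | add p q hp hq => simp only [add_mul, TensorProduct.add_tmul, map_add, hp, hq]
        | tmul p' q' => simp
    have e : r ⊗ₜ[k] c = (r ⊗ₜ[k] (1 : A)) * ((1 : R) ⊗ₜ[k] c) := by simp
    show U (V (r ⊗ₜ[k] c)) = r ⊗ₜ[k] c
    rw [e, map_mul, map_mul, key]
    simp [U, V, hone]
  have hUb : U (b ⊗ₜ[k] (1 : A)) = Comod.coact (k := k) (A := A) b := by simp [U, ← Algebra.TensorProduct.one_def]
  rw [← hUV t, ← hUb, ← map_mul] at ht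
  have hVU : ∀ w, V (U w) = w := by
    intro w
    refine AlgHom.congr_fun (?_ : V.comp U = AlgHom.id k _) w
    refine Algebra.TensorProduct.ext' fun r c => ?_
    have key : V (U (r ⊗ₜ[k] (1 : A))) = r ⊗ₜ[k] (1 : A) := by
      conv_rhs => rw [← HopfMod.coact_antipode_left (k := k) (A := A) r]
      simp only [U, V, Algebra.TensorProduct.lift_tmul, map_one, mul_one, GLin.coactAlgHom_apply]
      generalize Comod.coact (k := k) (A := A) r = s
      induction s with
      | zero => simp
      | add p q hp hq => simp only [map_add, hp, hq]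
      | tmul p q =>
        simp only [Algebra.TensorProduct.lift_tmul, AlgHom.comp_apply, GLin.coactAlgHom_apply,
          LinearMap.rTensor_tmul]
        generalize Comod.coact (k := k) (A := A) p = s'
        induction s' with
        | zero => simp
        | add p q hp hq => simp only [map_add, add_mul, TensorProduct.add_tmul, hp, hq]
        | tmul p' q' => simp
    have e : r ⊗ₜ[k] c = (r ⊗ₜ[k] (1 : A)) * ((1 : R) ⊗ₜ[k] c) := by simp
    show V (U (r ⊗ₜ[k] c)) = r ⊗ₜ[k] c
    rw [e, map_mul, map_mul, key]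
    simp [U, V, hone]
  have h0 : (b ⊗ₜ[k] (1 : A)) * V t = 0 := by simpa [hVU] using congrArg V ht
  rw [← hUV t, hnz _ h0, map_zero]

end Coact

section Prod

open Classical in
theorem exists_pi_of_eqLocus {ι : Type u} [Fintype ι] (D : ι → Type u)
    [∀ i, CommRing (D i)] [∀ i, IsDomain (D i)] [∀ i, IsIntegrallyClosed (D i)]
    (R : Type u) [CommRing R] (F : Set ((Π i, D i) →+* R))
    (hF : ∀ f ∈ F, ∀ s ∈ nonZeroDivisors (Π i, D i), f s ∈ nonZeroDivisors R)
    (A : Subring (Π i, D i)) (hA : ∀ a, a ∈ A ↔ ∀ f ∈ F, ∀ f' ∈ F, f a = f' a) :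
    ∃ (κ : Type u) (_ : Fintype κ) (E : κ → Type u) (_ : ∀ j, CommRing (E j)) (_ : ∀ j, IsDomain (E j))
      (_ : ∀ j, IsIntegrallyClosed (E j)), Nonempty (A ≃+* Π j, E j) := by
  let ind : Finset ι → (Π i, D i) := fun s i => if i ∈ s then 1 else 0
  have hnz : ∀ s : (Π i, D i), (∀ i, s i ≠ 0) → s ∈ nonZeroDivisors (Π i, D i) := fun s hs => by
    rw [mem_nonZeroDivisors_iff]
    constructor <;> intro x hx <;> funext i <;>
      simpa [hs i] using congrFun hx i
  -- supports of members of `A` are in `A`
  have hsupp : ∀ a ∈ A, ind (Finset.univ.filter fun i => a i ≠ 0) ∈ A := by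
    intro a ha
    set u := ind (Finset.univ.filter fun i => a i ≠ 0) with hu
    have key : ∀ f ∈ F, ∀ f' ∈ F, f u * f' (1 - u) = 0 := by
      intro f hf f' hf'
      have h1 : a * (1 - u) = 0 := funext fun i => by by_cases h : a i = 0 <;> simp [u, ind, h]
      have h2 : u * (1 - u) = 0 := funext fun i => by by_cases h : a i = 0 <;> simp [u, ind, h]
      have h3 : a + (1 - u) ∈ nonZeroDivisors (Π i, D i) := hnz _ fun i => by
        by_cases h : a i = 0 <;> simp [u, ind, h]
      refine (mem_nonZeroDivisors_iff.1 (hF f hf _ h3)).1 _ ?_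
      have e1 : f a * f' (1 - u) = 0 := by
        rw [(hA a).1 ha f hf f' hf', ← map_mul, h1, map_zero]
      have e2 : f u * f (1 - u) = 0 := by rw [← map_mul, h2, map_zero]
      rw [map_add]
      linear_combination f u * e1 + f' (1 - u) * e2
    refine (hA u).2 fun f hf f' hf' => ?_
    have e1 := key f hf f' hf'
    have e2 := key f' hf' f hf
    rw [map_sub, map_one] at e1 e2
    linear_combination e1 - e2
  let cls : ι → Finset ι := fun i => Finset.univ.filter fun j => ∀ s, ind s ∈ A → i ∈ s → j ∈ s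
  have hinter : ∀ s s', ind s ∈ A → ind s' ∈ A → ind (s ∩ s') ∈ A := fun s s' h h' => by
    convert A.mul_mem h h' using 1
    funext i; by_cases h1 : i ∈ s <;> by_cases h2 : i ∈ s' <;> simp [ind, h1, h2]
  have hcompl : ∀ s, ind s ∈ A → ind sᶜ ∈ A := fun s h => by
    convert A.sub_mem A.one_mem h using 1
    funext i; by_cases h1 : i ∈ s <;> simp [ind, h1]
  have hcls : ∀ i, ind (cls i) ∈ A := by
    intro i
    have hall : ∀ T : Finset (Finset ι), (∀ s ∈ T, ind s ∈ A) → ind (Finset.univ.filter fun j => ∀ s ∈ T, j ∈ s) ∈ A := by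
      intro T
      induction T using Finset.induction_on with
      | empty =>
        intro _
        convert A.one_mem using 1
        funext i; simp [ind]
      | insert s T hs ih =>
        intro hT
        convert hinter s _ (hT s (Finset.mem_insert_self _ _)) (ih fun t ht => hT t (Finset.mem_insert_of_mem ht)) using 2
        ext j; simp
    convert hall (Finset.univ.filter fun s => ind s ∈ A ∧ i ∈ s) (fun s hs => (Finset.mem_filter.1 hs).2.1) using 2
    ext j; simp [cls]
  have hself : ∀ i, i ∈ cls i := fun i => by simp [cls]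
  have heq : ∀ i j, j ∈ cls i → cls j = cls i := by
    intro i j hj
    simp only [cls, Finset.mem_filter, Finset.mem_univ, true_and] at hj
    ext l
    simp only [cls, Finset.mem_filter, Finset.mem_univ, true_and]
    refine ⟨fun h s hs his => h s hs (hj s hs his), fun h s hs hjs => h s hs ?_⟩
    by_contra his
    have := hj sᶜ (hcompl s hs) (Finset.mem_compl.2 his)
    exact Finset.mem_compl.1 this hjs
  let κ : Type u := {c : Finset ι // ∃ i, cls i = c}
  let pr : ∀ c : κ, A →+* (∀ i : {i // i ∈ c.1}, D i.1) := fun c =>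
    { toFun := fun a i => a.1 i.1
      map_one' := rfl
      map_mul' := fun _ _ => rfl
      map_zero' := rfl
      map_add' := fun _ _ => rfl }
  -- an element of a block vanishes everywhere or nowhere
  have hblock : ∀ (c : κ) (x : (pr c).range) (i j : {i // i ∈ c.1}), x.1 i = 0 → x.1 j = 0 := by
    rintro ⟨c, l, hl⟩ ⟨_, a, rfl⟩ ⟨i, hi⟩ ⟨j, hj⟩ h0
    by_contra hne
    subst hl
    have h1 := hsupp _ a.2
    have hji : i ∈ cls j := by rw [heq l j hj]; exact hi
    simp only [cls, Finset.mem_filter, Finset.mem_univ, true_and] at hji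
    exact (Finset.mem_filter.1 (hji _ h1 (Finset.mem_filter.2 ⟨Finset.mem_univ _, hne⟩))).2 h0
  have hne : ∀ c : κ, Nonempty {i // i ∈ c.1} := fun ⟨c, i, hi⟩ => ⟨⟨i, hi ▸ hself i⟩⟩
  have hdom : ∀ c : κ, IsDomain (pr c).range := by
    intro c
    haveI : Nontrivial (pr c).range := by
      obtain ⟨i⟩ := hne c
      refine ⟨⟨0, 1, fun h => ?_⟩⟩
      have := congrFun (congrArg Subtype.val h) i
      exact zero_ne_one this
    haveI : NoZeroDivisors (pr c).range := ⟨fun {x y} hxy => by
      by_contra hno
      rw [not_or] at hno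
      obtain ⟨i⟩ := hne c
      obtain ⟨hx, hy⟩ := hno
      have hxi : x.1 i ≠ 0 := fun h => hx (Subtype.ext (funext fun j => hblock c x i j h))
      have hyi : y.1 i ≠ 0 := fun h => hy (Subtype.ext (funext fun j => hblock c y i j h))
      exact mul_ne_zero hxi hyi (congrFun (congrArg Subtype.val hxy) i)⟩
    exact NoZeroDivisors.to_isDomain _
  have hic : ∀ c : κ, IsIntegrallyClosed (pr c).range := by
    intro c
    haveI := hdom c
    refine (isIntegrallyClosed_iff (FractionRing (pr c).range)).2 fun {x} hx => ?_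
    obtain ⟨p, q, hq, rfl⟩ := IsFractionRing.div_surjective (A := (pr c).range) x
    have hq0 : q ≠ 0 := nonZeroDivisors.ne_zero hq
    have hdiv : ∀ i : {i // i ∈ c.1}, q.1 i ≠ 0 ∧ ∃ d : D i.1, d * q.1 i = p.1 i := by
      intro i
      have hqi : q.1 i ≠ 0 := fun h => hq0 (Subtype.ext (funext fun j => hblock c q i j h))
      refine ⟨hqi, ?_⟩
      let π : (pr c).range →+* D i.1 := (Pi.evalRingHom (fun j : {i // i ∈ c.1} => D j.1) i).comp (pr c).range.subtype
      have hπ : Function.Injective π := by
        rw [injective_iff_map_eq_zero]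
        exact fun y hy => Subtype.ext (funext fun j => hblock c y i j hy)
      let ψ : FractionRing (pr c).range →+* FractionRing (D i.1) := IsFractionRing.map hπ
      have hcomp : ∀ y, ψ (algebraMap _ _ y) = algebraMap _ _ (π y) := fun y => IsLocalization.map_eq _ y
      have hint : IsIntegral (D i.1) (ψ (algebraMap _ _ p / algebraMap _ _ q)) :=
        IsIntegral.map_of_comp_eq π ψ (RingHom.ext fun y => (hcomp y).symm) hx
      obtain ⟨d, hd⟩ := IsIntegrallyClosed.algebraMap_eq_of_integral hint
      refine ⟨d, IsFractionRing.injective (D i.1) (FractionRing (D i.1)) ?_⟩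
      rw [map_mul, hd, map_div₀, hcomp, hcomp]
      exact div_mul_cancel₀ _ ((map_ne_zero_iff _ (IsFractionRing.injective _ _)).2 hqi)
    choose hqi d hd using hdiv
    obtain ⟨a, ha⟩ := p.2
    obtain ⟨b, hb⟩ := q.2
    obtain ⟨l, hl⟩ := c.2
    have hclsA : ind c.1 ∈ A := by rw [← hl]; exact hcls l
    let z : Π i, D i := fun i => if h : i ∈ c.1 then d ⟨i, h⟩ else 0
    have hz1 : z * b.1 = a.1 * ind c.1 := funext fun i => by
      by_cases h : i ∈ c.1
      · have := hd ⟨i, h⟩
        rw [← congrFun ha ⟨i, h⟩, ← congrFun hb ⟨i, h⟩] at this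
        simpa [z, ind, h, pr] using this
      · simp [z, ind, h]
    have hz2 : z * (1 - ind c.1) = 0 := funext fun i => by by_cases h : i ∈ c.1 <;> simp [z, ind, h]
    have hz3 : b.1 * ind c.1 + (1 - ind c.1) ∈ nonZeroDivisors (Π i, D i) := hnz _ fun i => by
      by_cases h : i ∈ c.1
      · have := hqi ⟨i, h⟩
        rw [← congrFun hb ⟨i, h⟩] at this
        simpa [ind, h, pr] using this
      · simp [ind, h]
    have hzA : z ∈ A := (hA z).2 fun f hf f' hf' => by
      have e1 := congrArg f hz1
      have e2 := congrArg f' hz1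
      have e3 := congrArg f hz2
      have e4 := congrArg f' hz2
      simp only [map_mul, map_sub, map_one, map_zero] at e1 e2 e3 e4
      rw [(hA _).1 a.2 f hf f' hf', (hA _).1 hclsA f hf f' hf', (hA _).1 b.2 f hf f' hf'] at e1
      rw [(hA _).1 hclsA f hf f' hf'] at e3
      refine sub_eq_zero.1 ((mem_nonZeroDivisors_iff.1 (hF f' hf' _ hz3)).1 _ ?_)
      simp only [map_add, map_mul, map_sub, map_one]
      linear_combination f' (ind c.1) * e1 - f' (ind c.1) * e2 + e3 - e4
    refine ⟨⟨pr c ⟨z, hzA⟩, ⟨_, rfl⟩⟩, ?_⟩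
    rw [eq_div_iff ((map_ne_zero_iff _ (IsFractionRing.injective _ _)).2 hq0), ← map_mul]
    congr 1
    exact Subtype.ext (funext fun i => by
      show (pr c ⟨z, hzA⟩) i * q.1 i = p.1 i
      simp [pr, z, i.2, hd])
  refine ⟨κ, inferInstance, fun c => ↥(pr c).range, fun c => inferInstance, hdom, hic, ⟨?_⟩⟩
  let φ : A →+* Π c : κ, (pr c).range := Pi.ringHom fun c => (pr c).rangeRestrict
  refine RingEquiv.ofBijective φ ⟨?_, ?_⟩
  · intro a a' h
    refine Subtype.ext (funext fun i => ?_)
    exact congrFun (congrArg Subtype.val (congrFun h ⟨cls i, i, rfl⟩)) ⟨i, hself i⟩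
  · intro y
    choose a ha using fun c => (y c).2
    have hclsA : ∀ c : κ, ind c.1 ∈ A := fun c => by
      obtain ⟨l, hl⟩ := c.2
      rw [← hl]; exact hcls l
    refine ⟨∑ c : κ, a c * ⟨ind c.1, hclsA c⟩, funext fun c => Subtype.ext (funext fun i => ?_)⟩
    show ((∑ c : κ, a c * ⟨ind c.1, hclsA c⟩ : A) : Π i, D i) i.1 = _
    rw [AddSubmonoidClass.coe_finsetSum, Finset.sum_apply, Finset.sum_eq_single c]
    · rw [← congrFun (ha c) i]
      simp [ind, i.2, pr]
    · intro c' _ hne'
      have : i.1 ∉ c'.1 := fun h => by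
        obtain ⟨l, hl⟩ := c.2
        obtain ⟨l', hl'⟩ := c'.2
        apply hne'
        refine Subtype.ext ?_
        rw [← hl, ← hl', ← heq l' i.1 (hl'.symm ▸ h), heq l i.1 (hl.symm ▸ i.2)]
      simp [ind, this]
    · intro h; exact absurd (Finset.mem_univ _) h

end Prod

end Groth.Agent.EqLocH28
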